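import Cfsg.Agent.S0799
import Cfsg.Agent.Lib.PSL2Sub.MaxClassify
import Mathlib.GroupTheory.SpecificGroups.Dihedral

/-! Sylow numbers of groups with a normal `PSL(2,17)` of index at most two. -/

set_option autoImplicit false

namespace CfsgLib.PSL17

open CfsgLib.PSL2Sub

instance fact_seventeen : Fact (Nat.Prime 17) := ⟨by norm_num⟩

theorem card_PS17 : Nat.card (PS (ZMod 17)) = 2448 := by
  have h := gcd_mul_card_PS (F := ZMod 17)
  rw [ZMod.card, show Nat.gcd 2 (17 - 1) = 2 by decide,
    show 17 * (17 ^ 2 - 1) = 2 * 2448 by norm_num] at h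
  exact Nat.eq_of_mul_eq_mul_left (by norm_num) h

theorem simple_PS17 : IsSimpleGroup (PS (ZMod 17)) :=
  isSimpleGroup_PS (by rw [ZMod.card]; norm_num)

theorem card_sylow_seventeen : Nat.card (Sylow 17 (PS (ZMod 17))) = 18 := by
  haveI := simple_PS17
  have h17 : 17 ∣ Nat.card (PS (ZMod 17)) := by rw [card_PS17]; norm_num
  obtain ⟨P⟩ : Nonempty (Sylow 17 (PS (ZMod 17))) := inferInstance
  have hc : Nat.card (P : Subgroup (PS (ZMod 17))) = 17 := by
    rw [Sylow.card_eq_multiplicity, card_PS17]
    rw [show (2448 : ℕ) = 17 ^ 1 * 144 by norm_num,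
      Nat.factorization_mul (by norm_num) (by norm_num), Nat.Prime.factorization_pow (by norm_num)]
    simp [Nat.factorization_eq_zero_of_not_dvd (show ¬ 17 ∣ 144 by norm_num)]
  have hi : (P : Subgroup (PS (ZMod 17))).index = 144 := by
    have := Subgroup.card_mul_index (P : Subgroup (PS (ZMod 17)))
    rw [hc, card_PS17] at this
    omega
  have hd : Nat.card (Sylow 17 (PS (ZMod 17))) ∣ 144 := hi ▸ P.card_dvd_index
  have hm : Nat.card (Sylow 17 (PS (ZMod 17))) % 17 = 1 := card_sylow_modEq_one 17 (PS (ZMod 17))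
  refine (by decide : ∀ n ∈ Nat.divisors 144, n % 17 = 1 → n ≠ 1 → n = 18) _
    (Nat.mem_divisors.2 ⟨hd, by norm_num⟩) hm ?_
  intro h1
  have hidx : (Subgroup.normalizer ((P : Subgroup (PS (ZMod 17))) : Set (PS (ZMod 17)))).index = 1 := by
    rw [← h1]; exact P.card_eq_index_normalizer.symm
  have hn : (P : Subgroup (PS (ZMod 17))).Normal :=
    Subgroup.normalizer_eq_top_iff.1 (Subgroup.index_eq_one.1 hidx)
  rcases hn.eq_bot_or_eq_top with h | h
  · rw [h, Subgroup.card_bot] at hc; omega
  · rw [h, Subgroup.card_top, card_PS17] at hc; omega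

/-- The subgroups of `PSL(2,17)` of the orders excluded in the Sylow count. -/
theorem card_subgroup (H : Subgroup (PS (ZMod 17))) :
    Nat.card H ≤ 18 ∨ Nat.card H ∣ 136 ∨ Nat.card H = 24 ∨ Nat.card H = 60 ∨ Nat.card H = 2448 ∨
      Nat.card H = 4896 := by
  rcases Cfsg.Agent.S0799.result (F := ZMod 17) (ZMod.card 17) 17 H with
    ⟨k, hk, hH⟩ | ⟨P, K, hK, ⟨e⟩⟩ | ⟨⟨e⟩⟩ | ⟨⟨e⟩⟩ | ⟨⟨e⟩⟩ | ⟨K, _, _, m, hm, hH⟩
  · norm_num at hk
    have hk' : k ≤ 9 := by rcases hk with h | h <;> have := Nat.le_of_dvd (by norm_num) h <;> omega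
    rcases hH with ⟨-, h⟩ | ⟨⟨e⟩⟩
    · exact Or.inl (h.trans_le (hk'.trans (by norm_num)))
    · rw [Nat.card_congr e.toEquiv, DihedralGroup.nat_card]; omega
  · refine Or.inr (Or.inl ?_)
    rw [Nat.card_congr e.toEquiv]
    refine (Subgroup.card_dvd_of_le hK).trans (dvd_of_eq ?_)
    have h1 := (Subgroup.normalizer ((P : Subgroup (PS (ZMod 17))) : Set (PS (ZMod 17)))).card_mul_index
    rw [show (Subgroup.normalizer ((P : Subgroup (PS (ZMod 17))) : Set (PS (ZMod 17)))).index = 18 from
      P.card_eq_index_normalizer.symm.trans card_sylow_seventeen, card_PS17] at h1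
    exact Nat.eq_of_mul_eq_mul_right (by norm_num : 0 < 18) (h1.trans (by norm_num))
  · rw [Nat.card_congr e.toEquiv, nat_card_alternatingGroup, Nat.card_fin]
    norm_num [Nat.factorial]
  · rw [Nat.card_congr e.toEquiv, Nat.card_eq_fintype_card, Fintype.card_perm, Fintype.card_fin]
    norm_num [Nat.factorial]
  · rw [Nat.card_congr e.toEquiv, nat_card_alternatingGroup, Nat.card_fin]
    norm_num [Nat.factorial]
  · have hm1 : m = 1 := by
      have hp : (Fintype.card K ^ m).Prime := by rw [hm]; norm_num
      exact Nat.Prime.eq_one_of_pow hp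
    subst hm1
    rw [pow_one] at hm
    rcases hH with ⟨⟨e⟩⟩ | ⟨⟨e⟩⟩
    · right; right; right; right; left
      rw [Nat.card_congr e.toEquiv]
      have h := gcd_mul_card_PS (F := K)
      rw [hm, show Nat.gcd 2 (17 - 1) = 2 by decide,
        show 17 * (17 ^ 2 - 1) = 2 * 2448 by norm_num] at h
      exact Nat.eq_of_mul_eq_mul_left (by norm_num) h
    · right; right; right; right; right
      rw [Nat.card_congr e.toEquiv]
      show Nat.card (Matrix.ProjGenLinGroup (Fin 2) K) = 4896
      rw [Linear.card_PGL, Linear.card_SL_two, hm]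
      norm_num

variable {X : Type*} [Group X] [Finite X]

theorem sylow_number (T : Subgroup X) [T.Normal] (e : T ≃* PS (ZMod 17)) (hT : T.index ≤ 2)
    (r n : ℕ) [Fact r.Prime] (h5 : r = 2 ∧ n = 153 ∨ r = 3 ∧ n = 136)
    (hd : Nat.card (Sylow r X) ∣ n) : Nat.card (Sylow r X) = n := by
  haveI := simple_PS17
  haveI : IsSimpleGroup T := e.isSimpleGroup
  have hTc : Nat.card T = 2448 := (Nat.card_congr e.toEquiv).trans card_PS17
  obtain ⟨R⟩ : Nonempty (Sylow r X) := inferInstance
  set N := Subgroup.normalizer ((R : Subgroup X) : Set X) with hN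
  have hRN : (R : Subgroup X) ≤ N := Subgroup.le_normalizer
  have hidx : T.index = 1 ∨ T.index = 2 := by
    have := T.index_ne_zero_of_finite
    omega
  have hsup : N ⊔ T = ⊤ := by
    by_cases hle : (R : Subgroup X) ≤ T
    · exact Sylow.normalizer_sup_eq_top' R hle
    · have hlt : T < (R : Subgroup X) ⊔ T := lt_of_le_of_ne le_sup_right fun h => hle (h ▸ le_sup_left)
      have h1 := Subgroup.index_dvd_of_le hlt.le
      have h2 : ((R : Subgroup X) ⊔ T).index ≠ T.index := fun h => by
        have := (Subgroup.index_strictAnti hlt)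
        omega
      have h3 : ((R : Subgroup X) ⊔ T).index = 1 := by
        rcases hidx with h | h <;> rw [h] at h1 h2
        · exact absurd (Nat.dvd_one.1 h1) h2
        · exact ((Nat.dvd_prime Nat.prime_two).1 h1).resolve_right h2
      exact top_unique ((Subgroup.index_eq_one.1 h3).ge.trans (sup_le_sup_right hRN T))
  have hrel : T.relIndex N = T.index := by
    rw [← Subgroup.relIndex_sup_right, hsup, Subgroup.relIndex_top_right]
  have hcT : Nat.card (Sylow r X) * Nat.card ↥(N ⊓ T) = 2448 := by
    have e1 : Nat.card X = T.index * Nat.card T := by rw [mul_comm]; exact T.card_mul_index.symm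
    have e2 : Nat.card N = T.index * Nat.card ↥(N ⊓ T) := by
      have := (T.subgroupOf N).index_mul_card
      rw [← this]
      congr 1
      · rw [inf_comm N T, ← Subgroup.inf_subgroupOf_right T N]
        exact (Nat.card_congr (Subgroup.subgroupOfEquivOfLe (H := T ⊓ N) inf_le_right).toEquiv)
    have e3 : N.index * Nat.card N = Nat.card X := N.index_mul_card
    rw [show N.index = Nat.card (Sylow r X) from R.card_eq_index_normalizer.symm, e2, e1, hTc] at e3
    exact Nat.eq_of_mul_eq_mul_left (Nat.pos_of_ne_zero T.index_ne_zero_of_finite)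
      (by rw [← e3]; ring)
  have hsub : ∃ H : Subgroup (PS (ZMod 17)), Nat.card H = Nat.card ↥(N ⊓ T) := by
    refine ⟨(N.subgroupOf T).map e.toMonoidHom, ?_⟩
    rw [Subgroup.card_map_of_injective e.injective]
    rw [← Subgroup.inf_subgroupOf_right N T]
    exact Nat.card_congr (Subgroup.subgroupOfEquivOfLe (H := N ⊓ T) inf_le_right).toEquiv
  obtain ⟨H, hH⟩ := hsub
  have hc := card_subgroup H
  rw [hH] at hc
  have hne1 : Nat.card (Sylow r X) ≠ 1 := by
    intro h1
    haveI : Subsingleton (Sylow r X) := (Nat.card_eq_one_iff_unique.1 h1).1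
    haveI : (R : Subgroup X).Normal := R.normal_of_subsingleton
    haveI hnT : ((R : Subgroup X).subgroupOf T).Normal := Subgroup.normal_subgroupOf
    rcases hnT.eq_bot_or_eq_top with h | h
    · -- then `R` embeds in `X ⧸ T`
      have h4 : T.relIndex (R : Subgroup X) = Nat.card (R : Subgroup X) := by
        rw [Subgroup.relIndex, Subgroup.subgroupOf_eq_bot.2 (by
          rw [disjoint_comm]; exact Subgroup.subgroupOf_eq_bot.1 h), Subgroup.index_bot]
      have h6 : T.relIndex (R : Subgroup X) ∣ T.index := Subgroup.relIndex_dvd_index_of_normal T _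
      rw [h4] at h6
      have h7 : 2 < Nat.card (R : Subgroup X) := by
        have hdv : (if r = 2 then 4 else 9) ∣ Nat.card X := by
          refine Nat.dvd_trans ?_ T.card_subgroup_dvd_card
          rw [hTc]
          rcases h5 with ⟨rfl, -⟩ | ⟨rfl, -⟩ <;> norm_num
        rcases h5 with ⟨rfl, -⟩ | ⟨rfl, -⟩
        · have := R.pow_dvd_card_of_pow_dvd_card (n := 2) (by simpa using hdv)
          have := Nat.le_of_dvd Nat.card_pos this
          omega
        · have := R.pow_dvd_card_of_pow_dvd_card (n := 2) (by simpa using hdv)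
          have := Nat.le_of_dvd Nat.card_pos this
          omega
      have := Nat.le_of_dvd (Nat.pos_of_ne_zero T.index_ne_zero_of_finite) h6
      omega
    · have hTR : T ≤ (R : Subgroup X) := Subgroup.subgroupOf_eq_top.1 h
      have h17 : 17 ∣ Nat.card (R : Subgroup X) := by
        refine Nat.dvd_trans ?_ (Subgroup.card_dvd_of_le hTR)
        rw [hTc]; norm_num
      obtain ⟨a, ha⟩ := IsPGroup.iff_card.1 R.isPGroup'
      rw [ha] at h17
      have := (Nat.prime_dvd_prime_iff_eq (by norm_num) Fact.out).1 ((by norm_num : Nat.Prime 17).dvd_of_dvd_pow h17)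
      rcases h5 with ⟨rfl, -⟩ | ⟨rfl, -⟩ <;> omega
  have hmod : Nat.card (Sylow r X) % r = 1 := by
    have := card_sylow_modEq_one r X
    rw [Nat.ModEq, Nat.mod_eq_of_lt (Fact.out : r.Prime).one_lt] at this
    exact this
  rcases h5 with ⟨rfl, rfl⟩ | ⟨rfl, rfl⟩
  · rcases (by decide : ∀ m ∈ Nat.divisors 153, m = 1 ∨ m = 3 ∨ m = 9 ∨ m = 17 ∨ m = 51 ∨ m = 153) _
      (Nat.mem_divisors.2 ⟨hd, by norm_num⟩) with h | h | h | h | h | h <;>
      first
        | exact h
        | exact absurd h hne1
        | (exfalso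
           rw [h] at hcT
           rcases hc with h | h | h | h | h | h
           · omega
           · have := Nat.le_of_dvd (by norm_num) h
             have h' : Nat.card ↥(N ⊓ T) = 48 := by omega
             rw [h'] at h
             omega
           all_goals omega)
  · rcases (by decide : ∀ m ∈ Nat.divisors 136, m % 3 = 1 → m = 1 ∨ m = 4 ∨ m = 34 ∨ m = 136) _
      (Nat.mem_divisors.2 ⟨hd, by norm_num⟩) hmod with h | h | h | h <;>
      first
        | exact h
        | exact absurd h hne1
        | (exfalso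
           rw [h] at hcT
           rcases hc with h | h | h | h | h | h
           · omega
           · have := Nat.le_of_dvd (by norm_num) h
             have h' : Nat.card ↥(N ⊓ T) = 72 := by omega
             rw [h'] at h
             omega
           all_goals omega)

end CfsgLib.PSL17
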