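import Cfsg.Agent.S0732
import Cfsg.Agent.Lib.PSL17.SylowNumbers

/-! The action of a group with eighteen Sylow `17`-subgroups on them. -/

set_option autoImplicit false

namespace CfsgLib.PSL17

open CfsgLib.PSL2Sub MulAction

variable {G : Type*} [Group G] [Finite G]

/-- The permutation representation on the Sylow `17`-subgroups. -/
noncomputable def rep : G →* Equiv.Perm (Sylow 17 G) := toPermHom G (Sylow 17 G)

theorem fixed_iff (P Q : Sylow 17 G) : (∀ y ∈ (P : Subgroup G), y • Q = Q) ↔ Q = P := by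
  constructor
  · intro h
    have hle : (P : Subgroup G) ≤ (Q : Subgroup G) := by
      have h1 : (P : Subgroup G) ≤ Subgroup.normalizer ((Q : Subgroup G) : Set G) :=
        fun y hy => Sylow.smul_eq_iff_mem_normalizer.1 (h y hy)
      intro y hy
      exact ((P.isPGroup'.inf_normalizer_sylow Q).le ⟨hy, h1 hy⟩).2
    exact Sylow.ext (P.is_maximal' Q.isPGroup' hle)
  · rintro rfl y hy
    exact Sylow.smul_eq_iff_mem_normalizer.2 (Subgroup.le_normalizer hy)

theorem card_range_structure (h18 : Nat.card (Sylow 17 G) = 18) :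
    ∃ d : ℕ, Nat.card (rep (G := G)).range = (17 + 1) * 17 * d ∧ d < 17 := by
  classical
  haveI : Fintype (Sylow 17 G) := Fintype.ofFinite _
  obtain ⟨P⟩ : Nonempty (Sylow 17 G) := inferInstance
  set X := (rep (G := G)).range with hX
  haveI : IsPretransitive X (Sylow 17 G) := ⟨fun Q Q' => by
    obtain ⟨g, hg⟩ := exists_smul_eq G Q Q'
    exact ⟨⟨rep g, g, rfl⟩, hg⟩⟩
  have horb : Nat.card X = 18 * Nat.card (stabilizer X P) := by
    rw [← (stabilizer X P).index_mul_card, index_stabilizer_of_transitive X P, h18]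
  set A := (P : Subgroup G).map (rep (G := G)).rangeRestrict with hA
  have hAP : IsPGroup 17 A := P.isPGroup'.map _
  -- the image of `P` fixes `P` alone
  have hfixA : ∀ Q : Sylow 17 G, (∀ a ∈ A, a • Q = Q) ↔ Q = P := by
    intro Q
    rw [← fixed_iff P Q]
    exact ⟨fun h y hy => h _ ⟨y, hy, rfl⟩, by rintro h _ ⟨y, hy, rfl⟩; exact h y hy⟩
  have hcard2 : ∃ Q : Sylow 17 G, Q ≠ P := by
    by_contra hc
    push_neg at hc
    haveI : Subsingleton (Sylow 17 G) := ⟨fun a b => (hc a).trans (hc b).symm⟩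
    rw [Nat.card_of_subsingleton P] at h18
    omega
  have hAcard : Nat.card A = 17 := by
    obtain ⟨n, hn⟩ := IsPGroup.iff_card.1 hAP
    have hne : Nat.card A ≠ 1 := by
      intro h1
      obtain ⟨Q, hQ⟩ := hcard2
      refine hQ ((hfixA Q).1 fun a ha => ?_)
      rw [Subgroup.eq_bot_of_card_eq A h1, Subgroup.mem_bot] at ha
      rw [ha, one_smul]
    have hdvd : Nat.card A ∣ Nat.factorial 18 := by
      refine (A.card_subgroup_dvd_card).trans (X.card_subgroup_dvd_card.trans ?_)
      rw [Nat.card_perm, h18]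
    rw [hn] at hne hdvd
    have : n ≤ 1 := by
      by_contra hc
      have h2 : 17 ^ 2 ∣ Nat.factorial 18 := (pow_dvd_pow 17 (by omega)).trans hdvd
      revert h2
      norm_num [Nat.factorial]
    interval_cases n
    · simp at hne
    · simpa using hn
  obtain ⟨c, hc⟩ : ∃ c : X, Subgroup.zpowers c = A := by
    haveI : IsCyclic A := isCyclic_of_prime_card hAcard
    obtain ⟨c, hc⟩ := IsCyclic.exists_generator (α := A)
    refine ⟨c, le_antisymm (Subgroup.zpowers_le.2 c.2) fun a ha => ?_⟩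
    obtain ⟨k, hk⟩ := Subgroup.mem_zpowers_iff.1 (hc ⟨a, ha⟩)
    exact Subgroup.mem_zpowers_iff.2 ⟨k, by simpa using congrArg Subtype.val hk⟩
  have hAfixP : ∀ a ∈ A, a • P = P := (hfixA P).2 rfl
  have hAst : A ≤ stabilizer X P := fun a ha => hAfixP a ha
  -- transitivity away from `P`
  have htr : ∀ Q Q' : Sylow 17 G, Q ≠ P → Q' ≠ P → ∃ a ∈ A, a • Q = Q' := by
    intro Q Q' hQ hQ'
    have hsub : orbit A Q ⊆ {R : Sylow 17 G | R ≠ P} := by
      rintro R ⟨a, rfl⟩ h
      apply hQ
      have h' : (a : X) • Q = P := h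
      rw [← inv_smul_smul (a : X) Q, h', hAfixP _ (A.inv_mem a.2)]
    have hcd : Nat.card (orbit A Q) ∣ 17 := by
      refine dvd_trans ?_ (dvd_of_eq hAcard)
      rw [Nat.card_coe_set_eq, ← index_stabilizer]
      exact Subgroup.index_dvd_card _
    have hco : Nat.card (orbit A Q) = 17 := by
      refine ((Nat.dvd_prime (by norm_num)).1 hcd).resolve_left fun h1 => hQ ((hfixA Q).1 fun a ha => ?_)
      haveI := (Nat.card_eq_one_iff_unique.1 h1).1
      exact congrArg Subtype.val (Subsingleton.elim (α := orbit A Q) ⟨(⟨a, ha⟩ : A) • Q, mem_orbit Q _⟩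
        ⟨Q, mem_orbit_self Q⟩)
    have hne : Set.ncard {R : Sylow 17 G | R ≠ P} = 17 := by
      rw [show {R : Sylow 17 G | R ≠ P} = ({P} : Set (Sylow 17 G))ᶜ from rfl, Set.ncard_compl,
        Set.ncard_singleton, h18]
    have heq := Set.eq_of_subset_of_ncard_le hsub (by rw [hne, ← Nat.card_coe_set_eq, hco])
    obtain ⟨a, ha⟩ := (heq.symm ▸ hQ' : Q' ∈ orbit A Q)
    exact ⟨a, a.2, ha⟩
  -- `A` is normal in the stabiliser
  have hnorm : ∀ x ∈ stabilizer X P, ∀ a ∈ A, x * a * x⁻¹ ∈ A := by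
    rintro ⟨_, g, rfl⟩ hg _ ⟨y, hy, rfl⟩
    have hgP : g • P = P := hg
    have hN := Sylow.smul_eq_iff_mem_normalizer.1 hgP
    exact ⟨g * y * g⁻¹, (Subgroup.mem_normalizer_iff.1 hN y).1 hy, Subtype.ext (by simp [map_mul, map_inv])⟩
  haveI : (A.subgroupOf (stabilizer X P)).Normal := ⟨fun a ha x => hnorm x x.2 a ha⟩
  set A' := A.subgroupOf (stabilizer X P) with hA'
  have hA'c : Nat.card A' = 17 := by
    rw [hA', Nat.card_congr (Subgroup.subgroupOfEquivOfLe hAst).toEquiv, hAcard]
  let ψ : stabilizer X P →* MulAut A' := MulAut.conjNormal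
  have hker : ψ.ker = A' := by
    ext x
    constructor
    · intro hx
      have hcA : c ∈ A := by rw [← hc]; exact Subgroup.mem_zpowers c
      have hcx : Commute (x : X) c := by
        have h1 := DFunLike.congr_fun hx (⟨⟨c, hAst hcA⟩, hcA⟩ : A')
        have h2 : (x : X) * c * (x : X)⁻¹ = c := by
          simpa [ψ, MulAut.conjNormal_apply] using congrArg (fun z : A' => ((z : stabilizer X P) : X)) h1
        exact mul_inv_eq_iff_eq_mul.1 h2
      obtain ⟨Q, hQ⟩ := hcard2
      have hxQ : (x : X) • Q ≠ P := fun h => hQ (MulAction.injective (x : X) (h.trans x.2.symm))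
      obtain ⟨a, ha, haQ⟩ := htr Q _ hQ hxQ
      show (x : X) ∈ A
      suffices h : (x : X) = a by rw [h]; exact ha
      apply Subtype.ext
      apply Equiv.ext
      intro R
      show (x : X) • R = a • R
      by_cases hR : R = P
      · rw [hR, hAfixP a ha]; exact x.2
      · obtain ⟨b, hb, rfl⟩ := htr Q R hQ hR
        rw [← hc] at hb ha
        obtain ⟨i, rfl⟩ := Subgroup.mem_zpowers_iff.1 hb
        obtain ⟨j, rfl⟩ := Subgroup.mem_zpowers_iff.1 ha
        rw [smul_smul, (hcx.zpow_right i).eq, ← smul_smul, ← haQ, smul_smul, smul_smul,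
          zpow_mul_comm c i j]
    · intro hx
      have hcom : IsMulCommutative A' := by
        haveI : IsCyclic A' := isCyclic_of_prime_card hA'c
        infer_instance
      rw [MonoidHom.mem_ker]
      ext z
      have h1 := congrArg Subtype.val (hcom.is_comm.comm (⟨x, hx⟩ : A') z)
      simp only [ψ, MulAut.conjNormal_apply, MulAut.one_apply]
      simp only [Subgroup.coe_mul] at h1
      rw [h1, mul_inv_cancel_right]
  refine ⟨Nat.card ψ.range, ?_, ?_⟩
  · rw [horb, ← ψ.ker.index_mul_card, Subgroup.index_ker, hker, hA'c]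
    ring
  · haveI : IsCyclic A' := isCyclic_of_prime_card hA'c
    refine lt_of_le_of_lt (Subgroup.card_le_card_group _) ?_
    rw [IsCyclic.card_mulAut, hA'c, Nat.totient_prime (by norm_num)]
    norm_num

/-- The permutation group has a normal `PSL(2,17)` of index at most two. -/
theorem range_classify (h18 : Nat.card (Sylow 17 G) = 18) :
    (Nonempty ((rep (G := G)).range ≃* PS (ZMod 17)) ∨ Nonempty ((rep (G := G)).range ≃* PG (ZMod 17))) ∧
      ∃ T : Subgroup (rep (G := G)).range, T.Normal ∧ T.index ≤ 2 ∧ Nonempty (T ≃* PS (ZMod 17)) := by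
  classical
  haveI : Fintype (Sylow 17 G) := Fintype.ofFinite _
  obtain ⟨d, hd, hlt⟩ := card_range_structure h18
  haveI : IsPretransitive (rep (G := G)).range (Sylow 17 G) := ⟨fun Q Q' => by
    obtain ⟨g, hg⟩ := exists_smul_eq G Q Q'
    exact ⟨⟨rep g, g, rfl⟩, hg⟩⟩
  rcases Cfsg.Agent.S0732.result (p := 17) (d := d) (by norm_num)
      (by rw [← Nat.card_eq_fintype_card, h18]) (rep (G := G)).range hd hlt with
    ⟨rfl, ⟨e⟩⟩ | ⟨h8, ⟨e⟩⟩ | ⟨q, hq, h2, -⟩
  · refine ⟨Or.inr ⟨e⟩, ?_⟩
    let T : Subgroup (rep (G := G)).range := (toPG (K := ZMod 17)).range.map e.symm.toMonoidHom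
    have eT : PS (ZMod 17) ≃* T :=
      (MonoidHom.ofInjective toPG_injective).trans (e.symm.subgroupMap _)
    refine ⟨T, ?_, ?_, ⟨eT.symm⟩⟩
    · have hn : (toPG (K := ZMod 17)).range.Normal := by
        have hr : (toPG (K := ZMod 17)).range =
            (Matrix.SpecialLinearGroup.toPGL : Matrix.SpecialLinearGroup (Fin 2) (ZMod 17) →* PG (ZMod 17)).range :=
          (range_toPGL_eq _).symm
        rw [hr]; exact range_toPGL_normal _
      exact hn.map _ e.symm.surjective
    · have h := T.card_mul_index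
      rw [← Nat.card_congr eT.toEquiv, card_PS17, hd] at h
      omega
  · refine ⟨Or.inl ⟨e⟩, ⊤, inferInstance, by rw [Subgroup.index_top]; norm_num, ⟨Subgroup.topEquiv.trans e⟩⟩
  · exfalso
    have hd2 : q ≤ 4 := by
      by_contra hc
      have := Nat.pow_le_pow_right (show 2 > 0 by norm_num) (show 5 ≤ q by omega)
      omega
    interval_cases q <;> omega

end CfsgLib.PSL17
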